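import Groth.Agent.AmpleEmb.RelVanish
import Groth.Agent.CMRegLib.OnX

/-!
# Vanishing of cohomology for two ample modules
-/

set_option autoImplicit false
set_option backward.isDefEq.respectTransparency false
set_option linter.style.haveILetI false

universe u

open CategoryTheory CategoryTheory.Limits AlgebraicGeometry TopologicalSpace Opposite
open Groth.Agent.PullbackMod Groth.Agent.DCohLib Groth.Agent.ParaFLib Groth.Agent.AmpleLib
open Groth.Agent.AmpleEmb Groth.Agent.CohBase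

noncomputable section

namespace Groth.Agent.PairVanLib

variable {X : Scheme.{u}} {R : Type u} [CommRing R] [IsNoetherianRing R]

/-- If the first powers of an embedding module kill cohomology, then all powers do. -/
theorem vanish_of_small {φ : R →+* Γ(X, ⊤)} {L : X.Modules} (E : Emb φ L)
    (f : X ⟶ Spec (CommRingCat.of R)) [IsProper f]
    {G : X.Modules} (hG : Coh.IsCoh G)
    (h : ∀ j : ℕ, j ≤ E.n → ∀ p, 0 < p → Subsingleton (Coh.HH X (tmod G (CohB1.tensorPow E.P j)) p))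
    (d : ℕ) (p : ℕ) (hp : 0 < p) :
    Subsingleton (Coh.HH X (tmod G (CohB1.tensorPow E.P d)) p) := by
  haveI : IsLocallyNoetherian X := LocallyOfFiniteType.isLocallyNoetherian f
  by_cases hd : d ≤ E.n
  · exact h d hd p hp
  obtain ⟨N, hN, ⟨e⟩⟩ := exists_isInverseOf E.inv
  let T₀ := (E.mulData e).tensor G
  have h0 : Coh.IsCoh (T₀.F 0) := CurveLib.isCoh_tmod hG (DevLib.isCoh_structureModule X)
  let T := T₀.toTwistData h0.1 E.isAffineOpen_inf
  have hreg : CMRegLib.DataReg T₀ ((E.n : ℤ) + 1) := by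
    intro q hq
    by_cases hqn : q ≤ E.n + 1
    · rw [show (E.n : ℤ) + 1 - (q : ℤ) = ((E.n + 1 - q : ℕ) : ℤ) by omega]
      exact h (E.n + 1 - q) (by omega) q hq
    · obtain ⟨q', rfl⟩ : ∃ q', q = q' + 1 := ⟨q - 1, by omega⟩
      exact T.subsingleton_HH_of_card_le _ q' (by simp; omega)
  exact hreg.vanish_ge (q := p) hp (d := (d : ℤ)) (by omega)

/-- Serre vanishing for two ample modules, uniformly in the larger exponent. -/
theorem exists_vanish_pair (f : X ⟶ Spec (CommRingCat.of R)) [IsProper f]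
    {L M : X.Modules} (hL : CohB1.IsAmple L) (hM : CohB1.IsAmple M) {F : X.Modules} (hF : Coh.IsCoh F) :
    ∃ n : ℕ, ∀ a b p : ℕ, 0 < p → n ≤ max a b →
      Subsingleton (Coh.HH X (tmod F (tmod (CohB1.tensorPow L a) (CohB1.tensorPow M b))) p) := by
  haveI : IsLocallyNoetherian X := LocallyOfFiniteType.isLocallyNoetherian f
  haveI := hL.2.1
  haveI : IsNoetherian X := { }
  rcases isEmpty_or_nonempty X with hX | hX
  · refine ⟨0, fun a b p hp _ => CurveLib.subsingleton_HH_of_dim _ (d := 0) ?_ hp⟩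
    refine Order.krullDim_nonpos_iff_forall_isMax.2 fun Z => ?_
    obtain ⟨x, -⟩ := Z.isIrreducible.1
    exact (hX.false x).elim
  let φ : R →+* Γ(X, ⊤) := ((Scheme.ΓSpecIso (CommRingCat.of R)).inv ≫ f.appTop).hom
  obtain ⟨E⟩ := exists_emb hL f φ rfl
  have cL : ∀ r : ℕ, Coh.IsCoh (CohB1.tensorPow L r) := fun r =>
    CurveLib.isCoh_of_isInvertible (isInvertible_tensorPow hL.1 r)
  have cM : ∀ r : ℕ, Coh.IsCoh (CohB1.tensorPow M r) := fun r =>
    CurveLib.isCoh_of_isInvertible (isInvertible_tensorPow hM.1 r)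
  have cP : ∀ r : ℕ, Coh.IsCoh (CohB1.tensorPow E.P r) := fun r =>
    CurveLib.isCoh_of_isInvertible (isInvertible_tensorPow E.inv r)
  have h1 : ∀ r j : ℕ, ∃ n₀ : ℕ, ∀ b, n₀ ≤ b → ∀ p, 0 < p →
      Subsingleton (Coh.HH X (tmod (tmod (tmod F (CohB1.tensorPow L r)) (CohB1.tensorPow E.P j))
        (CohB1.tensorPow M b)) p) := fun r j =>
    serre_vanishing f hM (CurveLib.isCoh_tmod (CurveLib.isCoh_tmod hF (cL r)) (cP j))
  choose B₀ hB₀ using h1
  let B := (Finset.range E.D).sup fun r => (Finset.range (E.n + 1)).sup (B₀ r)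
  have h2 : ∀ b : ℕ, ∃ n₀ : ℕ, ∀ a, n₀ ≤ a → ∀ p, 0 < p →
      Subsingleton (Coh.HH X (tmod (tmod F (CohB1.tensorPow M b)) (CohB1.tensorPow L a)) p) := fun b =>
    serre_vanishing f hL (CurveLib.isCoh_tmod hF (cM b))
  choose A₀ hA₀ using h2
  let A := (Finset.range B).sup A₀
  refine ⟨max A B, fun a b p hp hab => ?_⟩
  by_cases hb : B ≤ b
  · have hr : a % E.D < E.D := Nat.mod_lt a E.hD
    have key : Subsingleton (Coh.HH X (tmod (tmod (tmod F (CohB1.tensorPow L (a % E.D)))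
        (CohB1.tensorPow M b)) (CohB1.tensorPow E.P (a / E.D))) p) := by
      refine vanish_of_small E f
        (CurveLib.isCoh_tmod (CurveLib.isCoh_tmod hF (cL (a % E.D))) (cM b)) (fun j hj q hq => ?_) _ p hp
      have hB : B₀ (a % E.D) j ≤ B :=
        (Finset.le_sup (f := B₀ (a % E.D)) (Finset.mem_range.2 (by omega))).trans
          (Finset.le_sup (f := fun r => (Finset.range (E.n + 1)).sup (B₀ r)) (Finset.mem_range.2 hr))
      refine CurveLib.subsingleton_HH_iso ?_ q (hB₀ (a % E.D) j b (hB.trans hb) q hq)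
      exact AmpleLib.assoc _ _ _ ≪≫ AmpleLib.tIso (Iso.refl _) (AmpleLib.comm _ _) ≪≫ (AmpleLib.assoc _ _ _).symm
    refine CurveLib.subsingleton_HH_iso ?_ p key
    exact AmpleLib.assoc _ _ _ ≪≫ AmpleLib.tIso (Iso.refl _) (AmpleLib.comm _ _) ≪≫
      AmpleLib.assoc _ _ _ ≪≫ AmpleLib.tIso (Iso.refl F) ((AmpleLib.assoc _ _ _).symm ≪≫
        AmpleLib.tIso (AmpleLib.tIso (Iso.refl _) (AmpleLib.powCongr E.iso _ ≪≫ AmpleLib.powMul L E.D _) ≪≫
          (AmpleLib.powAdd L (a % E.D) (E.D * (a / E.D))).symm ≪≫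
            eqToIso (congrArg (CohB1.tensorPow L) (Nat.mod_add_div a E.D))) (Iso.refl _))
  · have hA : A₀ b ≤ A := Finset.le_sup (f := A₀) (Finset.mem_range.2 (by omega))
    refine CurveLib.subsingleton_HH_iso ?_ p (hA₀ b a (by omega) p hp)
    exact AmpleLib.assoc _ _ _ ≪≫ AmpleLib.tIso (Iso.refl F) (AmpleLib.comm _ _)

theorem isCoh_tensor_two {Y : Scheme.{u}} [IsLocallyNoetherian Y] {A B : Y.Modules} (hA : Coh.IsCoh A)
    (hB : Coh.IsCoh B) : Coh.IsCoh (CohB1.tensorMod A B) :=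
  CurveLib.isCoh_tmod hA hB

theorem isCoh_tensor_three {Y : Scheme.{u}} [IsLocallyNoetherian Y] {A B C : Y.Modules} (hA : Coh.IsCoh A)
    (hB : Coh.IsCoh B) (hC : Coh.IsCoh C) : Coh.IsCoh (CohB1.tensorMod A (CohB1.tensorMod B C)) :=
  isCoh_tensor_two hA (isCoh_tensor_two hB hC)

/-- Restriction of a twist. -/
def restrictPairIso {Y U : Scheme.{u}} (j : U ⟶ Y) [IsOpenImmersion j] (F L M : Y.Modules) (a b : ℕ) :
    (CohB1.tensorMod F (CohB1.tensorMod (CohB1.tensorPow L a) (CohB1.tensorPow M b))).restrict j ≅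
      CohB1.tensorMod (F.restrict j)
        (CohB1.tensorMod (CohB1.tensorPow (L.restrict j) a) (CohB1.tensorPow (M.restrict j) b)) :=
  AmpleLib.restrictTensor j F _ ≪≫ AmpleLib.tIso (Iso.refl _) (AmpleLib.restrictTensor j _ _ ≪≫
    AmpleLib.tIso (AmpleLib.restrictPow j L a) (AmpleLib.restrictPow j M b))

variable {X S : Scheme.{u}} (f : X ⟶ S)

set_option maxHeartbeats 1000000 in
/-- Higher direct images vanish for large twists by two relatively ample modules. -/
theorem exists_isZero_rpush_pair [IsProper f] [IsNoetherian S] [HasInjectiveResolutions X.Modules]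
    {L M : X.Modules} (hL : PicF.IsInvertible L) (hM : PicF.IsInvertible M)
    (hLa : ∀ W : S.Opens, IsAffineOpen W → CohB1.IsAmple (L.restrict (f ⁻¹ᵁ W).ι))
    (hMa : ∀ W : S.Opens, IsAffineOpen W → CohB1.IsAmple (M.restrict (f ⁻¹ᵁ W).ι))
    {F : X.Modules} (hF : Coh.IsCoh F) :
    ∃ n₀ : ℕ, ∀ i a b : ℕ, 0 < i → n₀ ≤ max a b →
      IsZero ((Coh.Rpush f i).obj
        (CohB1.tensorMod F (CohB1.tensorMod (CohB1.tensorPow L a) (CohB1.tensorPow M b)))) := by
  classical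
  haveI : IsLocallyNoetherian X := LocallyOfFiniteType.isLocallyNoetherian f
  obtain ⟨s, hs, hseq⟩ := isCompact_iff_finite_and_eq_biUnion_affineOpens.mp
    (show IsCompact ((⊤ : S.Opens) : Set S) from isCompact_univ)
  have key : ∀ V : S.affineOpens, ∃ d : ℕ, ∀ a b : ℕ, d ≤ max a b → ∀ (g : Γ(S, V.1)) (p : ℕ),
      Subsingleton (HU (f ⁻¹ᵁ S.basicOpen g) (Coh.toAb (CohB1.tensorMod F
        (CohB1.tensorMod (CohB1.tensorPow L a) (CohB1.tensorPow M b)))) (p + 1)) := by
    intro V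
    let U := f ⁻¹ᵁ V.1
    haveI : IsNoetherianRing Γ(S, V.1) := IsLocallyNoetherian.component_noetherian V
    let φ : U.toScheme ⟶ Spec Γ(S, V.1) := f ∣_ V.1 ≫ V.2.isoSpec.hom
    haveI : IsProper φ := inferInstance
    obtain ⟨d, hd⟩ := exists_vanish_pair (R := Γ(S, V.1)) φ (hLa V.1 V.2) (hMa V.1 V.2) (F := F.restrict U.ι)
      (ProjCoh.isCoh_of_iso (AmpleLib.restrictIso U.ι F).symm (PullbackMod.isCoh_pullback _ _ hF))
    refine ⟨d, fun a b hab g p => ?_⟩
    have hN : Coh.IsCoh (CohB1.tensorMod F (CohB1.tensorMod (CohB1.tensorPow L a) (CohB1.tensorPow M b))) :=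
      isCoh_tensor_three hF
        (CurveLib.isCoh_of_isInvertible (AmpleLib.isInvertible_tensorPow hL a))
        (CurveLib.isCoh_of_isInvertible (AmpleLib.isInvertible_tensorPow hM b))
    haveI := hN.1
    refine subsingleton_HU_preimage_basicOpen f _ V.2 p ?_ g
    exact CurveLib.subsingleton_HH_iso (restrictPairIso U.ι F L M a b).symm (p + 1)
      (hd a b (p + 1) p.succ_pos hab)
  choose d hd using key
  refine ⟨hs.toFinset.sup d, fun i a b hi hab => ?_⟩
  let N := CohB1.tensorMod F (CohB1.tensorMod (CohB1.tensorPow L a) (CohB1.tensorPow M b))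
  obtain ⟨q, rfl⟩ : ∃ q, i = q + 1 := ⟨i - 1, by omega⟩
  have hAb : IsZero ((Coh.RpushAb f (q + 1)).obj (Coh.toAb N)) := by
    refine RpushLib.isZero_rightDerived_at f.base (B := fun U => ∃ V ∈ s, ∃ g : Γ(S, V.1), U = S.basicOpen g)
      (fun W y hy => ?_) (Coh.toAb N) q ?_
    · obtain ⟨V, hV, hyV⟩ : ∃ V ∈ s, y ∈ (V : S.Opens) := by
        have hy' : y ∈ (⊤ : S.Opens) := trivial
        rw [hseq] at hy'
        simpa [Opens.mem_iSup] using hy'
      obtain ⟨g, hgW, hyg⟩ := V.2.exists_basicOpen_le (V := W) ⟨y, hy⟩ hyV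
      exact ⟨S.basicOpen g, ⟨V, hV, g, rfl⟩, hyg, hgW⟩
    · rintro _ ⟨V, hV, g, rfl⟩
      exact hd V a b ((Finset.le_sup (f := d) (hs.mem_toFinset.mpr hV)).trans hab) g q
  have h1 : IsZero ((QCohLib.toAbF S).obj ((Coh.Rpush f (q + 1)).obj N)) :=
    IsZero.of_iso hAb ((RpushLib.toAbRpushIso f (q + 1)).app _)
  rw [IsZero.iff_id_eq_zero]
  exact (QCohLib.toAbF S).map_injective (h1.eq_of_src _ _)

end Groth.Agent.PairVanLib
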